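import Mathlib

/-!
# The scheme-theoretic image of a flat scheme over a Dedekind domain is flat

No quasi-compactness: the kernel of `f` is the largest ideal sheaf contained in the sectionwise
kernels, and we show it is saturated with respect to nonzero scalars by constructing the colon ideal
sheaf `(f.ker : a)`.
-/

set_option autoImplicit false
universe u

open AlgebraicGeometry CategoryTheory Limits TopologicalSpace

namespace Groth.Agent.Lib.Helper24.ImageDed

/-- the colon ideal `(I : a)`. -/
def colonIdeal {A : Type*} [CommRing A] (I : Ideal A) (a : A) : Ideal A where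
  carrier := {s | a * s ∈ I}
  add_mem' := by
    intro x y hx hy
    simp only [Set.mem_ofPred_eq, mul_add] at *
    exact I.add_mem hx hy
  zero_mem' := by simp
  smul_mem' := by
    intro c x hx
    simp only [Set.mem_ofPred_eq, smul_eq_mul] at *
    rw [mul_left_comm]
    exact I.mul_mem_left c hx

theorem mem_colonIdeal {A : Type*} [CommRing A] (I : Ideal A) (a s : A) :
    s ∈ colonIdeal I a ↔ a * s ∈ I := Iff.rfl

theorem le_colonIdeal {A : Type*} [CommRing A] (I : Ideal A) (a : A) : I ≤ colonIdeal I a :=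
  fun s hs => I.mul_mem_left a hs

theorem map_colonIdeal {A B : Type*} [CommRing A] [CommRing B] [Algebra A B] (M : Submonoid A)
    [IsLocalization M B] (I : Ideal A) (a : A) :
    (colonIdeal I a).map (algebraMap A B) =
      colonIdeal (I.map (algebraMap A B)) (algebraMap A B a) := by
  apply le_antisymm
  · rw [Ideal.map_le_iff_le_comap]
    intro s hs
    rw [Ideal.mem_comap, mem_colonIdeal, ← map_mul]
    exact Ideal.mem_map_of_mem _ hs
  · intro x hx
    obtain ⟨s, m, rfl⟩ := IsLocalization.exists_mk'_eq M x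
    rw [mem_colonIdeal, ← IsLocalization.mk'_one (M := M) B a, ← IsLocalization.mk'_mul,
      IsLocalization.mk'_mem_map_algebraMap_iff] at hx
    obtain ⟨t, ht, hts⟩ := hx
    rw [IsLocalization.mk'_mem_map_algebraMap_iff]
    refine ⟨t, ht, ?_⟩
    rw [mem_colonIdeal, mul_left_comm]
    exact hts

/-- the colon ideal sheaf `(I : α)` for a global section `α`. -/
noncomputable def colon {Y : Scheme.{u}} (I : Y.IdealSheafData) (α : Γ(Y, ⊤)) :
    Y.IdealSheafData where
  ideal U := colonIdeal (I.ideal U) ((Y.presheaf.map (homOfLE (le_top : U.1 ≤ ⊤)).op).hom α)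
  map_ideal_basicOpen U g := by
    letI : Algebra Γ(Y, U) Γ(Y, Y.affineBasicOpen g) :=
      (Y.presheaf.map (homOfLE (Y.basicOpen_le g)).op).hom.toAlgebra
    have : IsLocalization.Away g Γ(Y, Y.basicOpen g) := U.2.isLocalization_of_eq_basicOpen _ _ rfl
    have h1 := map_colonIdeal (B := Γ(Y, Y.basicOpen g)) (.powers g) (I.ideal U)
      ((Y.presheaf.map (homOfLE (le_top : U.1 ≤ ⊤)).op).hom α)
    rw [RingHom.algebraMap_toAlgebra] at h1
    refine h1.trans ?_
    rw [I.map_ideal_basicOpen U g]
    congr 1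
    rw [← CommRingCat.comp_apply, ← Functor.map_comp]
    rfl

theorem mem_colon_ideal {Y : Scheme.{u}} (I : Y.IdealSheafData) (α : Γ(Y, ⊤)) (U : Y.affineOpens)
    (s : Γ(Y, U)) :
    s ∈ (colon I α).ideal U ↔
      (Y.presheaf.map (homOfLE (le_top : U.1 ≤ ⊤)).op).hom α * s ∈ I.ideal U := Iff.rfl

/-- sections of a flat `R`-scheme over any open have no `R`-torsion. -/
theorem eq_zero_of_mul_eq_zero {R : Type u} [CommRing R] [IsDomain R] {X : Scheme.{u}}
    (p : X ⟶ Spec (CommRingCat.of R)) [Flat p] (a : R) (ha : a ≠ 0) (V : X.Opens) (s : Γ(X, V))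
    (h : (p.appLE ⊤ V le_top).hom ((Scheme.ΓSpecIso (CommRingCat.of R)).inv.hom a) * s = 0) :
    s = 0 := by
  refine X.sheaf.eq_of_locally_eq' (fun W : {W : X.affineOpens // W.1 ≤ V} => W.1.1) V
    (fun W => homOfLE W.2) ?_ s 0 ?_
  · intro x hx
    obtain ⟨_, ⟨W, hW, rfl⟩, hxW, hWV⟩ :=
      X.isBasis_affineOpens.exists_subset_of_mem_open hx V.isOpen
    exact Opens.mem_iSup.mpr ⟨⟨⟨W, hW⟩, hWV⟩, hxW⟩
  · intro W
    rw [map_zero]
    have hfl : (p.appLE ⊤ W.1.1 le_top).hom.Flat :=
      HasRingHomProperty.appLE (P := @Flat) p inferInstance ⟨⊤, isAffineOpen_top _⟩ W.1 le_top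
    let ψ : R →+* Γ(X, W.1.1) :=
      (p.appLE ⊤ W.1.1 le_top).hom.comp (Scheme.ΓSpecIso (CommRingCat.of R)).inv.hom
    have hψ : ψ.Flat :=
      RingHom.Flat.comp (RingHom.Flat.of_bijective (ConcreteCategory.bijective_of_isIso _)) hfl
    letI := ψ.toAlgebra
    have : Module.Flat R Γ(X, W.1.1) := hψ
    have hreg := Module.Flat.isSMulRegular_of_nonZeroDivisors (M := Γ(X, W.1.1))
      (mem_nonZeroDivisors_of_ne_zero ha)
    have key : a • ((X.presheaf.map (homOfLE W.2).op).hom s) = 0 := by
      change ψ a * _ = 0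
      have h2 : ψ a = (X.presheaf.map (homOfLE W.2).op).hom
          ((p.appLE ⊤ V le_top).hom ((Scheme.ΓSpecIso (CommRingCat.of R)).inv.hom a)) := by
        have h3 := p.appLE_map (U := ⊤) (V := V) le_top (homOfLE W.2).op
        exact (congr($h3 ((Scheme.ΓSpecIso (CommRingCat.of R)).inv.hom a))).symm
      rw [h2, ← map_mul, h, map_zero]
    exact hreg (key.trans (smul_zero a).symm)

end Groth.Agent.Lib.Helper24.ImageDed
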