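import Mathlib
import Groth.Agent.Lib.Helper24.FlatClosure.Generic

/-!
# The flat closure of the generic fibre over a DVR (S18266)
-/

set_option autoImplicit false
universe u

open AlgebraicGeometry CategoryTheory Limits TensorProduct

namespace Groth.Agent.Lib.Helper24.FlatClosure

variable (A : Type u) [CommRing A] [IsDomain A] [IsDiscreteValuationRing A]

theorem mem_basicOpen_of_ne_zero (η : ↥(Spec (CommRingCat.of A))) (hη : η.asIdeal = ⊥)
    (a : Γ(Spec (CommRingCat.of A), ⊤)) (ha : a ≠ 0) : η ∈ (Spec (CommRingCat.of A)).basicOpen a := by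
  rw [basicOpen_eq_of_affine']
  show (Scheme.ΓSpecIso (CommRingCat.of A)).hom a ∉ η.asIdeal
  rw [hη, Ideal.mem_bot]
  intro h0
  apply ha
  have := congrArg (Scheme.ΓSpecIso (CommRingCat.of A)).inv h0
  rwa [map_zero, ← CommRingCat.comp_apply, Iso.hom_inv_id, CommRingCat.id_apply] at this

theorem main18266 {X : Scheme.{u}} (f : X ⟶ Spec (CommRingCat.of A))
    (η : ↥(Spec (CommRingCat.of A))) (hη : η.asIdeal = ⊥) :
    Flat ((f.fiberι η).imageι ≫ f) ∧
      ∀ (Z : Scheme.{u}) (i : Z ⟶ X), IsClosedImmersion i → Flat (i ≫ f) →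
        (f.fiberι η).ker ≤ i.ker := by
  haveI : QuasiCompact (f.fiberι η) :=
    inferInstanceAs (QuasiCompact (pullback.fst f ((Spec (CommRingCat.of A)).fromSpecResidueField η)))
  have hpt : ∀ x : f.fiber η, (f.fiberι η ≫ f) x = η := by
    intro x
    have : f.fiberι η x ∈ Set.range (f.fiberι η) := ⟨x, rfl⟩
    rw [Scheme.Hom.range_fiberι] at this
    exact this
  constructor
  · apply flat_image f (f.fiberι η)
    intro a ha W
    apply isUnit_appLE_of_forall_mem
    intro x _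
    rw [hpt x]
    exact mem_basicOpen_of_ne_zero A η hη a ha
  · intro Z i hi hflat
    rw [Scheme.IdealSheafData.le_def]
    intro U s hs
    rw [Scheme.Hom.ker_apply, RingHom.mem_ker] at hs ⊢
    -- `η` is the generic point
    have hgen : η = genericPoint (Spec (CommRingCat.of A)) := by
      rw [genericPoint_eq_bot_of_affine]
      exact PrimeSpectrum.ext hη
    subst hgen
    have hV : IsAffineOpen (⊤ : (Spec (CommRingCat.of A)).Opens) := isAffineOpen_top _
    have e : U.1 ≤ f ⁻¹ᵁ ⊤ := le_top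
    have hηV : genericPoint (Spec (CommRingCat.of A)) ∈ (⊤ : (Spec (CommRingCat.of A)).Opens) :=
      trivial
    letI := (f.appLE ⊤ U.1 e).hom.toAlgebra
    letI := ((Spec (CommRingCat.of A)).evaluation ⊤ (genericPoint _) hηV).hom.toAlgebra
    haveI := isFractionRing_evaluation hV hηV
    have h1 := tmul_eq_zero_of_fst_app_eq_zero f hV U.2 e (genericPoint _) hηV s hs
    obtain ⟨a, ha, has⟩ := exists_smul_eq_zero_of_tmul_eq_zero
      (K := (Spec (CommRingCat.of A)).residueField (genericPoint _)) s h1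
    have has' : (f.appLE ⊤ U.1 e).hom a * s = 0 := has
    -- transport to `Z`
    have hW : IsAffineOpen (i ⁻¹ᵁ U.1) := U.2.preimage i
    have e2 : i ⁻¹ᵁ U.1 ≤ (i ≫ f) ⁻¹ᵁ ⊤ := le_top
    have hfl : ((i ≫ f).appLE ⊤ (i ⁻¹ᵁ U.1) e2).hom.Flat :=
      HasRingHomProperty.appLE (P := @Flat) (i ≫ f) hflat ⟨⊤, hV⟩ ⟨_, hW⟩ e2
    have h2 := appLE_app_of_comp i f (i ≫ f) rfl ⊤ U.1 e e2
    have h3 : ((i ≫ f).appLE ⊤ (i ⁻¹ᵁ U.1) e2).hom a * (i.app U.1).hom s = 0 := by
      rw [← h2, CommRingCat.comp_apply]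
      show (i.app U.1).hom ((f.appLE ⊤ U.1 e).hom a) * (i.app U.1).hom s = 0
      rw [← map_mul, has', map_zero]
    letI := ((i ≫ f).appLE ⊤ (i ⁻¹ᵁ U.1) e2).hom.toAlgebra
    have hfl' : Module.Flat Γ(Spec (CommRingCat.of A), ⊤) Γ(Z, i ⁻¹ᵁ U.1) := hfl
    rw [Module.Flat.flat_iff_torsion_eq_bot_of_isBezout] at hfl'
    have hmem : (i.app U.1).hom s ∈
        Submodule.torsion Γ(Spec (CommRingCat.of A), ⊤) Γ(Z, i ⁻¹ᵁ U.1) := by
      rw [Submodule.mem_torsion_iff]
      exact ⟨⟨a, mem_nonZeroDivisors_of_ne_zero ha⟩, h3⟩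
    rw [hfl', Submodule.mem_bot] at hmem
    exact hmem

end Groth.Agent.Lib.Helper24.FlatClosure
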