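import Groth.Agent.Lib.Helper24.FlatClosure.ImageDed

set_option autoImplicit false
universe u

open AlgebraicGeometry CategoryTheory Limits TopologicalSpace

namespace Groth.Agent.Lib.Helper24.ImageDed

theorem appLE_eq_app_res {X Y S : Scheme.{u}} (f : X ⟶ Y) (q : Y ⟶ S) (p : X ⟶ S) (w : f ≫ q = p)
    (V : Y.Opens) (e : f ⁻¹ᵁ V ≤ p ⁻¹ᵁ ⊤) (x : Γ(S, ⊤)) :
    (p.appLE ⊤ (f ⁻¹ᵁ V) e).hom x =
      (f.app V).hom ((Y.presheaf.map (homOfLE (le_top : V ≤ ⊤)).op).hom (q.appTop.hom x)) := by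
  subst w
  have h1 : (f ≫ q).appLE ⊤ (f ⁻¹ᵁ V) e = q.appLE ⊤ V le_top ≫ f.app V := by
    rw [Scheme.Hom.app_eq_appLE]
    exact (Scheme.Hom.appLE_comp_appLE _ _ _ _ _ _ _).symm
  rw [h1]
  have h2 : q.appLE ⊤ V le_top = q.appTop ≫ Y.presheaf.map (homOfLE (le_top : V ≤ ⊤)).op := by
    rw [Scheme.Hom.appTop, Scheme.Hom.app_eq_appLE]
    exact (q.appLE_map _ _).symm
  rw [h2]
  rfl

theorem main19202 (R : Type u) [CommRing R] [IsDedekindDomain R]
    {X Y : Scheme.{u}} (p : X ⟶ Spec (CommRingCat.of R)) (q : Y ⟶ Spec (CommRingCat.of R))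
    (f : X ⟶ Y) (w : f ≫ q = p) [Flat p] : Flat (f.imageι ≫ q) := by
  have hcov : ⨆ U : Y.affineOpens, f.imageι ⁻¹ᵁ U.1 = ⊤ := by
    rw [eq_top_iff]
    intro z _
    rw [TopologicalSpace.Opens.mem_iSup]
    obtain ⟨_, ⟨U, hU, rfl⟩, hzU, -⟩ := Y.isBasis_affineOpens.exists_subset_of_mem_open
      (Set.mem_univ (f.imageι z)) isOpen_univ
    exact ⟨⟨U, hU⟩, hzU⟩
  refine HasRingHomProperty.of_iSup_eq_top (P := @Flat)
    (fun U : Y.affineOpens => ⟨f.imageι ⁻¹ᵁ U.1, U.2.preimage f.imageι⟩) hcov ?_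
  intro U
  -- the colon ideal sheaf is contained in the kernel
  have hcolon : ∀ a : R, a ≠ 0 →
      colon f.ker (q.appTop.hom ((Scheme.ΓSpecIso (CommRingCat.of R)).inv.hom a)) ≤ f.ker := by
    intro a ha
    refine Scheme.IdealSheafData.le_ofIdeals_iff.2 ?_
    intro V s hs
    rw [mem_colon_ideal] at hs
    have h1 := f.ideal_ker_le V hs
    rw [RingHom.mem_ker, map_mul] at h1
    rw [RingHom.mem_ker]
    refine eq_zero_of_mul_eq_zero p a ha (f ⁻¹ᵁ V.1) _ ?_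
    rw [appLE_eq_app_res f q p w V.1 le_top]
    exact h1
  set ψ : R →+* Γ(f.image, f.imageι ⁻¹ᵁ U.1) :=
    ((f.imageι ≫ q).appLE ⊤ (f.imageι ⁻¹ᵁ U.1) le_top).hom.comp
      (Scheme.ΓSpecIso (CommRingCat.of R)).inv.hom with hψ
  have hflat : ψ.Flat := by
    letI := ψ.toAlgebra
    change Module.Flat R _
    rw [IsDedekindDomain.flat_iff_torsion_eq_bot, eq_bot_iff]
    intro t ht
    obtain ⟨⟨a, ha⟩, hat⟩ := (Submodule.mem_torsion_iff t).1 ht
    rw [Submodule.mem_bot]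
    have hat' : ψ a * t = 0 := hat
    obtain ⟨s, rfl⟩ := f.ker.subschemeι_app_surjective U t
    have h3 : ψ a = (f.imageι.app U.1).hom ((Y.presheaf.map (homOfLE (le_top : U.1 ≤ ⊤)).op).hom
        (q.appTop.hom ((Scheme.ΓSpecIso (CommRingCat.of R)).inv.hom a))) :=
      appLE_eq_app_res f.imageι q _ rfl U.1 le_top _
    rw [h3, ← map_mul, ← RingHom.mem_ker, f.ker.ker_subschemeι_app U] at hat'
    have h5 : s ∈ f.ker.ideal U := hcolon a (nonZeroDivisors.ne_zero ha) U hat'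
    rw [← f.ker.ker_subschemeι_app U, RingHom.mem_ker] at h5
    exact h5
  have h6 : ((f.imageι ≫ q).appLE ⊤ (f.imageι ⁻¹ᵁ U.1) le_top).hom =
      ψ.comp (Scheme.ΓSpecIso (CommRingCat.of R)).hom.hom := by
    ext x
    simp [ψ]
  rw [h6]
  exact RingHom.Flat.comp (RingHom.Flat.of_bijective (ConcreteCategory.bijective_of_isIso _)) hflat

end Groth.Agent.Lib.Helper24.ImageDed
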